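import Groth.Agent.Hensel.UnramifiedFlat
import Mathlib.RingTheory.Etale.Basic
import Mathlib.RingTheory.Unramified.LocalRing
import Mathlib.RingTheory.EssentialFiniteness
import Mathlib.RingTheory.Smooth.Flat

/-!
# Local rings of an étale algebra
-/

set_option autoImplicit false
set_option linter.style.haveILetI false

universe u

namespace Groth.Agent.EtLoc6

variable (A B : Type u) [CommRing A] [CommRing B] [Algebra A B] [Algebra.Etale A B] (q : Ideal B) [q.IsPrime]

theorem local_algebra :
    letI := Localization.AtPrime.algebraOfLiesOver (q.comap (algebraMap A B)) q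
    IsLocalHom (algebraMap (Localization.AtPrime (q.comap (algebraMap A B))) (Localization.AtPrime q)) ∧
      Module.Flat (Localization.AtPrime (q.comap (algebraMap A B))) (Localization.AtPrime q) ∧
      Algebra.EssFiniteType (Localization.AtPrime (q.comap (algebraMap A B))) (Localization.AtPrime q) ∧
      (IsLocalRing.maximalIdeal (Localization.AtPrime (q.comap (algebraMap A B)))).map
        (algebraMap (Localization.AtPrime (q.comap (algebraMap A B))) (Localization.AtPrime q)) =
        IsLocalRing.maximalIdeal (Localization.AtPrime q) := by
  letI := Localization.AtPrime.algebraOfLiesOver (q.comap (algebraMap A B)) q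
  let p := q.comap (algebraMap A B)
  haveI : IsScalarTower A (Localization.AtPrime p) (Localization.AtPrime q) := inferInstance
  haveI : IsLocalHom (algebraMap (Localization.AtPrime p) (Localization.AtPrime q)) := by
    rw [RingHom.algebraMap_toAlgebra]
    exact Localization.isLocalHom_localRingHom p q _ _
  haveI : Module.Flat B (Localization.AtPrime q) := IsLocalization.flat _ q.primeCompl
  haveI : Module.Flat A (Localization.AtPrime q) := Module.Flat.trans A B _
  haveI : Algebra.EssFiniteType B (Localization.AtPrime q) := Algebra.EssFiniteType.of_isLocalization _ q.primeCompl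
  haveI : Algebra.EssFiniteType A (Localization.AtPrime q) := Algebra.EssFiniteType.comp A B _
  haveI : Algebra.EssFiniteType (Localization.AtPrime p) (Localization.AtPrime q) := Algebra.EssFiniteType.of_comp A _ _
  refine ⟨inferInstance, (Module.flat_iff_of_isLocalization (Localization.AtPrime p) p.primeCompl _).2 inferInstance,
    inferInstance, ?_⟩
  haveI : Algebra.FormallyUnramified B (Localization.AtPrime q) := Algebra.FormallyUnramified.of_isLocalization q.primeCompl
  haveI : Algebra.FormallyUnramified A (Localization.AtPrime q) := Algebra.FormallyUnramified.comp A B _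
  haveI : Algebra.FormallyUnramified (Localization.AtPrime p) (Localization.AtPrime q) :=
    Algebra.FormallyUnramified.of_restrictScalars A _ _
  exact Algebra.FormallyUnramified.map_maximalIdeal

theorem isNoetherianRing_iff :
    IsNoetherianRing (Localization.AtPrime (q.comap (algebraMap A B))) ↔
      IsNoetherianRing (Localization.AtPrime q) := by
  letI := Localization.AtPrime.algebraOfLiesOver (q.comap (algebraMap A B)) q
  obtain ⟨_, _, _, -⟩ := local_algebra A B q
  haveI : Module.FaithfullyFlat (Localization.AtPrime (q.comap (algebraMap A B))) (Localization.AtPrime q) :=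
    Module.FaithfullyFlat.of_flat_of_isLocalHom
  refine ⟨fun _ => Algebra.EssFiniteType.isNoetherianRing (Localization.AtPrime (q.comap (algebraMap A B))) _, fun h => ?_⟩
  simp only [_root_.isNoetherianRing_iff, isNoetherian_iff'] at h ⊢
  exact StrictMono.wellFoundedGT (α := Ideal (Localization.AtPrime (q.comap (algebraMap A B))))
    (f := fun I => I.map (algebraMap _ (Localization.AtPrime q)))
    (Monotone.strictMono_of_injective (fun I J h => Ideal.map_mono h) fun I J h => by
      rw [← Ideal.comap_map_eq_self_of_faithfullyFlat (B := Localization.AtPrime q) I, h,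
        Ideal.comap_map_eq_self_of_faithfullyFlat])

theorem isRegularLocalRing_iff :
    IsRegularLocalRing (Localization.AtPrime (q.comap (algebraMap A B))) ↔
      IsRegularLocalRing (Localization.AtPrime q) := by
  letI := Localization.AtPrime.algebraOfLiesOver (q.comap (algebraMap A B)) q
  obtain ⟨_, _, _, hm⟩ := local_algebra A B q
  constructor <;> intro h
  · haveI : IsNoetherianRing (Localization.AtPrime (q.comap (algebraMap A B))) := h.toIsNoetherian
    haveI := (isNoetherianRing_iff A B q).1 inferInstance
    exact (Hensel.UnramifiedFlat.isRegularLocalRing_iff _ _ hm).1 h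
  · haveI : IsNoetherianRing (Localization.AtPrime q) := h.toIsNoetherian
    haveI := (isNoetherianRing_iff A B q).2 inferInstance
    exact (Hensel.UnramifiedFlat.isRegularLocalRing_iff _ _ hm).2 h

end Groth.Agent.EtLoc6
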